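import Groth.Agent.MiscFlat6.MorSmall
import Mathlib

/-!
# A dense open set over the ground field whose algebraic points avoid a nowhere dense set over an extension
-/

set_option backward.isDefEq.respectTransparency false
set_option backward.isDefEq.respectTransparency.types false

universe u

open CategoryTheory Limits AlgebraicGeometry TopologicalSpace

namespace MovLemLib

/-- Embeddings of algebraic closures into a field with the same restriction to the base field have equal ranges. -/
theorem exists_comp_eq {k L M Ω : Type u} [Field k] [Field L] [Field M] [Field Ω] [Algebra k L] [Algebra k M]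
    [Algebra k Ω] [IsAlgClosed L] [Algebra.IsAlgebraic k M] (j : L →ₐ[k] Ω) (i : M →ₐ[k] Ω) :
    ∃ θ : M →ₐ[k] L, j.comp θ = i := by
  have hmem : ∀ b : M, i b ∈ j.range := fun b => by
    letI : Algebra L Ω := j.toRingHom.toAlgebra
    haveI : IsScalarTower k L Ω := IsScalarTower.of_algebraMap_eq fun a => (j.commutes a).symm
    have hb : IsIntegral L (i b) := ((Algebra.IsAlgebraic.isAlgebraic (R := k) b).isIntegral.map i).tower_top
    obtain ⟨l, hl⟩ := minpoly.mem_range_of_degree_eq_one L (i b)
      (IsAlgClosed.degree_eq_one_of_irreducible L (minpoly.irreducible hb))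
    exact ⟨l, hl⟩
  refine ⟨(AlgEquiv.ofInjective j j.toRingHom.injective).symm.toAlgHom.comp (i.codRestrict j.range hmem),
    AlgHom.ext fun b => ?_⟩
  exact congrArg Subtype.val
    ((AlgEquiv.ofInjective j j.toRingHom.injective).apply_symm_apply ⟨i b, hmem b⟩)

theorem exists_isOpen_subset_closure {T : Type*} [TopologicalSpace T] [NoetherianSpace T] [T0Space T]
    [QuasiSober T] {ξ : T} (hξ : ∀ z, z ⤳ ξ → z = ξ) :
    ∃ W : Set T, IsOpen W ∧ W.Nonempty ∧ W ⊆ closure {ξ} := by
  let others := irreducibleComponents T \ {closure {ξ}}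
  have hfin : others.Finite := NoetherianSpace.finite_irreducibleComponents.subset Set.sdiff_subset
  have hcl : IsClosed (⋃₀ others) := by
    rw [Set.sUnion_eq_biUnion]
    exact hfin.isClosed_biUnion fun C hC => isClosed_of_mem_irreducibleComponents C hC.1
  refine ⟨(⋃₀ others)ᶜ, hcl.isOpen_compl, ⟨ξ, ?_⟩, fun z hz => ?_⟩
  · rintro ⟨C, ⟨hC, hne⟩, hξC⟩
    obtain ⟨g, hg⟩ := QuasiSober.sober hC.1 (isClosed_of_mem_irreducibleComponents C hC)
    have := hξ g (hg.specializes hξC)
    exact hne (by rw [Set.mem_singleton_iff, ← this]; exact hg.def.symm)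
  · by_contra hz'
    refine hz ⟨irreducibleComponent z, ⟨irreducibleComponent_mem_irreducibleComponents z, fun h => ?_⟩,
      mem_irreducibleComponent⟩
    exact hz' (Set.mem_singleton_iff.1 h ▸ mem_irreducibleComponent)

variable {k K : Type u} [Field k] [Field K] [Algebra k K]

theorem exists_dense_open (X : Scheme.{u}) (f : X ⟶ Spec (CommRingCat.of k)) [LocallyOfFiniteType f]
    [QuasiCompact f] (U' : (pullback f (Spec.map (CommRingCat.ofHom (algebraMap k K)))).Opens)
    (hU' : Dense (U' : Set ↥(pullback f (Spec.map (CommRingCat.ofHom (algebraMap k K)))))) :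
    ∃ U : X.Opens, Dense (U : Set ↥X) ∧
      ∀ (kb Ω : Type u) [Field kb] [Algebra k kb] [IsAlgClosure k kb]
        [Field Ω] [Algebra k Ω] [Algebra kb Ω] [Algebra K Ω] [IsScalarTower k kb Ω] [IsScalarTower k K Ω]
        (x : Spec (CommRingCat.of kb) ⟶ X),
        x ≫ f = Spec.map (CommRingCat.ofHom (algebraMap k kb)) →
        (∀ t : ↥(Spec (CommRingCat.of kb)), x.base t ∈ U) →
        ∀ (y : Spec (CommRingCat.of Ω) ⟶ pullback f (Spec.map (CommRingCat.ofHom (algebraMap k K)))),
          y ≫ pullback.fst f (Spec.map (CommRingCat.ofHom (algebraMap k K))) =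
              Spec.map (CommRingCat.ofHom (algebraMap kb Ω)) ≫ x →
          y ≫ pullback.snd f (Spec.map (CommRingCat.ofHom (algebraMap k K))) =
              Spec.map (CommRingCat.ofHom (algebraMap K Ω)) →
          ∀ t : ↥(Spec (CommRingCat.of Ω)), y.base t ∈ U' := by
  let k0 := AlgebraicClosure k
  let Kb := AlgebraicClosure K
  let ι : k0 →ₐ[k] Kb := IsAlgClosed.lift
  let sK := Spec.map (CommRingCat.ofHom (algebraMap k K))
  let s0 := Spec.map (CommRingCat.ofHom (algebraMap k k0))
  let sι := Spec.map (CommRingCat.ofHom ι.toRingHom)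
  let sb := Spec.map (CommRingCat.ofHom (algebraMap K Kb))
  have hsq : sι ≫ s0 = sb ≫ sK := by
    rw [← Spec.map_comp, ← Spec.map_comp, ← CommRingCat.ofHom_comp, ← CommRingCat.ofHom_comp,
      show ι.toRingHom.comp (algebraMap k k0) = algebraMap k Kb from ι.comp_algebraMap, IsScalarTower.algebraMap_eq k K Kb]
  let Xb := pullback f s0
  let r0 : Xb ⟶ X := pullback.fst f s0
  let W := pullback (pullback.snd f s0) sι
  let p : W ⟶ Xb := pullback.fst _ _
  let q : W ⟶ Spec (CommRingCat.of Kb) := pullback.snd _ _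
  have hw : (p ≫ r0) ≫ f = (q ≫ sb) ≫ sK := by
    rw [Category.assoc, Category.assoc, pullback.condition, ← hsq, ← Category.assoc p, pullback.condition,
      Category.assoc]
  let r : W ⟶ pullback f sK := pullback.lift (p ≫ r0) (q ≫ sb) hw
  have hr : IsPullback r q (pullback.snd f sK) sb := by
    refine IsPullback.of_right ?_ (pullback.lift_snd _ _ _) (IsPullback.of_hasPullback f sK)
    rw [pullback.lift_fst, ← hsq]
    exact IsPullback.paste_horiz (IsPullback.of_hasPullback (pullback.snd f s0) sι) (IsPullback.of_hasPullback f s0)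
  have : UniversallyOpen sb := inferInstance
  have : UniversallyOpen r := MorphismProperty.of_isPullback hr.flip this
  have : UniversallyOpen p := inferInstance
  have : Surjective p := inferInstance
  have hU'' : Dense (r ⁻¹' (U' : Set _)) := hU'.preimage r.isOpenMap
  let Tb : Set Xb := (p '' (r ⁻¹' (U' : Set _)))ᶜ
  have hTb : IsClosed Tb := (p.isOpenMap _ (U'.isOpen.preimage r.continuous)).isClosed_compl
  have hint : IsIntegralHom r0 := by
    have : IsIntegralHom s0 := IsIntegralHom.SpecMap_iff.2 (algebraMap_isIntegral_iff.2 inferInstance)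
    infer_instance
  let U : X.Opens := ⟨(r0 '' Tb)ᶜ, (r0.isClosedMap _ hTb).isOpen_compl⟩
  have : IsLocallyNoetherian Xb := LocallyOfFiniteType.isLocallyNoetherian (pullback.snd f s0)
  have : CompactSpace Xb := QuasiCompact.compactSpace_of_compactSpace (pullback.snd f s0)
  have : IsNoetherian Xb := ⟨⟩
  refine ⟨U, ?_, ?_⟩
  · rw [dense_iff_inter_open]
    intro V hV ⟨v, hv⟩
    obtain ⟨η, hη⟩ := QuasiSober.sober (isIrreducible_irreducibleComponent (x := v)) isClosed_irreducibleComponent
    have hηv : η ⤳ v := hη.specializes mem_irreducibleComponent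
    refine ⟨η, hηv.mem_open hV hv, fun hηT => ?_⟩
    obtain ⟨ξ, hξT, hξ⟩ := hηT
    have hmin : ∀ z, z ⤳ ξ → z = ξ := fun z hz => by
      refine (MiscFlat6.eq_of_specializes_of_integral r0 hz ?_).symm
      have h1 : r0 z ⤳ η := hξ ▸ hz.map r0.continuous
      have h2 : η ⤳ r0 z := by
        refine hη.specializes ?_
        have := irreducibleComponent_mem_irreducibleComponents v
        have hle : irreducibleComponent v ≤ closure {r0 z} := by
          rw [← hη.def]
          exact closure_minimal (Set.singleton_subset_iff.2 (specializes_iff_mem_closure.1 h1)) isClosed_closure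
        exact (this.2 isIrreducible_singleton.closure hle) (subset_closure rfl)
      exact hξ.trans (h2.antisymm h1).eq
    obtain ⟨W0, hW0, ⟨w0, hw0⟩, hsub⟩ := exists_isOpen_subset_closure hmin
    obtain ⟨a, ha⟩ := p.surjective w0
    obtain ⟨b, hb, hbU⟩ := hU''.inter_open_nonempty _ (hW0.preimage p.continuous) ⟨a, show p a ∈ W0 from ha ▸ hw0⟩
    exact hTb.closure_subset_iff.2 (Set.singleton_subset_iff.2 hξT) (hsub hb) ⟨b, hbU, rfl⟩
  intro kb Ω _ _ _ _ _ _ _ _ _ x hx hxU y hy1 hy2 t
  haveI : Algebra.IsAlgebraic k kb := IsAlgClosure.isAlgebraic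
  let Ω' := AlgebraicClosure Ω
  let ψ : Kb →ₐ[K] Ω' := IsAlgClosed.lift
  obtain ⟨θ, hθ⟩ := exists_comp_eq ((ψ.restrictScalars k).comp ι) (IsScalarTower.toAlgHom k kb Ω')
  let sθ := Spec.map (CommRingCat.ofHom θ.toRingHom)
  let s : Spec (CommRingCat.of k0) ⟶ Xb := pullback.lift (sθ ≫ x) (𝟙 _) (by
    rw [Category.assoc, hx, Category.id_comp, ← Spec.map_comp, ← CommRingCat.ofHom_comp, show θ.toRingHom.comp (algebraMap k kb) = algebraMap k k0 from θ.comp_algebraMap])
  let sψ := Spec.map (CommRingCat.ofHom ψ.toRingHom)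
  let sΩ := Spec.map (CommRingCat.ofHom (algebraMap Ω Ω'))
  let w : Spec (CommRingCat.of Ω') ⟶ W := pullback.lift (sψ ≫ sι ≫ s) sψ (by
    rw [Category.assoc, Category.assoc, pullback.lift_snd, Category.comp_id])
  have hwr : w ≫ r = sΩ ≫ y := by
    apply pullback.hom_ext
    · rw [Category.assoc, pullback.lift_fst, ← Category.assoc, pullback.lift_fst, Category.assoc, Category.assoc,
        pullback.lift_fst, Category.assoc, hy1]
      rw [← Category.assoc sι, ← Category.assoc sψ, ← Category.assoc sΩ, ← Spec.map_comp, ← Spec.map_comp,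
        ← Spec.map_comp]
      congr 1
      refine congrArg Spec.map (CommRingCat.hom_ext ?_)
      show (ψ.toRingHom.comp ι.toRingHom).comp θ.toRingHom = (algebraMap Ω Ω').comp (algebraMap kb Ω)
      rw [← IsScalarTower.algebraMap_eq]
      exact congrArg AlgHom.toRingHom hθ
    · rw [Category.assoc, pullback.lift_snd, ← Category.assoc, pullback.lift_snd, Category.assoc, hy2,
        ← Spec.map_comp, ← Spec.map_comp, ← CommRingCat.ofHom_comp, ← CommRingCat.ofHom_comp]
      congr 2
      rw [← IsScalarTower.algebraMap_eq]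
      exact ψ.comp_algebraMap
  obtain ⟨t', rfl⟩ : ∃ t', sΩ t' = t := ⟨IsLocalRing.closedPoint Ω', Subsingleton.elim _ _⟩
  let pt : Spec (CommRingCat.of k0) := IsLocalRing.closedPoint k0
  have hpw : p (w t') = s pt := by
    rw [← Scheme.Hom.comp_apply, pullback.lift_fst, Scheme.Hom.comp_apply, Scheme.Hom.comp_apply]
    exact congrArg s (Subsingleton.elim _ _)
  have hx0 : r0 (s pt) ∈ U := by
    rw [← Scheme.Hom.comp_apply, pullback.lift_fst, Scheme.Hom.comp_apply]
    exact hxU _
  have hnT : s pt ∈ p '' (r ⁻¹' (U' : Set _)) := by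
    by_contra hh
    exact hx0 ⟨_, hh, rfl⟩
  obtain ⟨w1, hw1, hpw1⟩ := hnT
  have hsub : Subsingleton ↥(pullback p s) := by
    have h := ((IsPullback.of_hasPullback p s).paste_horiz (IsPullback.of_hasPullback (pullback.snd f s0) sι).flip)
    have hs : s ≫ pullback.snd f s0 = 𝟙 _ := pullback.lift_snd _ _ _
    rw [hs] at h
    have := h.isIso_fst_of_isIso
    exact (asIso (pullback.fst p s ≫ q)).hom.homeomorph.injective.subsingleton
  have hmem : ∀ z, p z = s pt → z ∈ Set.range (pullback.fst p s) := fun z hz => by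
    rw [Scheme.Pullback.range_fst]
    exact ⟨pt, hz.symm⟩
  obtain ⟨a, ha⟩ := hmem _ hpw
  obtain ⟨b, hb⟩ := hmem _ hpw1
  have he : w t' = w1 := by rw [← ha, ← hb, Subsingleton.elim a b]
  show y (sΩ t') ∈ U'
  rw [← Scheme.Hom.comp_apply, ← hwr, Scheme.Hom.comp_apply, he]
  exact hw1

end MovLemLib
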